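import Groth.Agent.Lib.PicTan26.Split
import Groth.Agent.Lib.UnitsThick26.FlatIdeal
import Groth.Agent.Lib.PicSep26.Separated
import Groth.Agent.Lib.Euler.Coh
import Groth.Prelude.Def_Pic
import Mathlib.Algebra.DualNumber

/-!
# First order families of invertible modules over a field extension
-/

universe u

set_option backward.isDefEq.respectTransparency false

open CategoryTheory CategoryTheory.Limits AlgebraicGeometry TopologicalSpace Opposite
open GrothLib.Ample (res)

noncomputable section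

namespace GrothLib.PicTan26

theorem appTop_toGlobal {A B : Type u} [CommRing A] [CommRing B] {Y Y' : Scheme.{u}}
    (g : Y ⟶ Spec (CommRingCat.of A)) (g' : Y' ⟶ Spec (CommRingCat.of B)) (φ : A →+* B) (u : Y' ⟶ Y)
    (h : u ≫ g = g' ≫ Spec.map (CommRingCat.ofHom φ)) (a : A) :
    u.appTop (show Γ(Y, ⊤) from Coh.toGlobal g a) = (show Γ(Y', ⊤) from Coh.toGlobal g' (φ a)) := by
  show u.appTop (g.appTop _) = g'.appTop _
  rw [← CommRingCat.comp_apply, ← Scheme.Hom.comp_appTop, h, Scheme.Hom.comp_appTop, CommRingCat.comp_apply]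
  congr 1
  have := congrArg (fun q => (CommRingCat.Hom.hom q) a) (Scheme.ΓSpecIso_inv_naturality (CommRingCat.ofHom φ))
  exact this.symm

theorem XTmap_comp {X S : Scheme.{u}} (f : X ⟶ S) {T T' T'' : Over S} (g : T' ⟶ T) (g' : T'' ⟶ T') :
    PicF.XTmap f (g' ≫ g) = PicF.XTmap f g' ≫ PicF.XTmap f g := by
  apply pullback.hom_ext <;> simp [PicF.XTmap]

theorem XTmap_id {X S : Scheme.{u}} (f : X ⟶ S) (T : Over S) :
    PicF.XTmap f (𝟙 T) = 𝟙 _ := by
  apply pullback.hom_ext <;> simp [PicF.XTmap]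

variable {k : Type u} [Field k] {X : Scheme.{u}} (f : X ⟶ Spec (CommRingCat.of k))
  (K : Type u) [Field K] [Algebra k K]

/-- The field extension as a scheme over `k`. -/
abbrev T0 : Over (Spec (CommRingCat.of k)) := Over.mk (Spec.map (CommRingCat.ofHom (algebraMap k K)))

instance : (PicF.XT f (T0 (k := k) K)).Over (Spec (CommRingCat.of K)) :=
  ⟨PicF.XTproj f (T0 K)⟩

variable (W : Type u) [AddCommGroup W] [Module K W] [Module Kᵐᵒᵖ W] [IsCentralScalar K W]

/-- The structure map of the first order neighbourhood. -/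
abbrev baseHom : k →+* TrivSqZeroExt K W := (TrivSqZeroExt.inlHom K W).comp (algebraMap k K)

/-- The first order neighbourhood `Spec (K ⊕ W)` over `k`. -/
abbrev TW : Over (Spec (CommRingCat.of k)) := Over.mk (Spec.map (CommRingCat.ofHom (baseHom (k := k) K W)))

/-- The point of the neighbourhood. -/
def pt : T0 K ⟶ TW (k := k) K W :=
  Over.homMk (Spec.map (CommRingCat.ofHom (TrivSqZeroExt.fstHom K K W).toRingHom)) (by
    show Spec.map _ ≫ Spec.map _ = Spec.map _
    rw [← Spec.map_comp]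
    rfl)

/-- The retraction of the neighbourhood. -/
def pr : TW (k := k) K W ⟶ T0 K :=
  Over.homMk (Spec.map (CommRingCat.ofHom (TrivSqZeroExt.inlHom K W))) (by
    show Spec.map _ ≫ Spec.map _ = Spec.map _
    rw [← Spec.map_comp]
    rfl)

theorem pt_pr : pt (k := k) K W ≫ pr K W = 𝟙 _ := by
  apply Over.OverMorphism.ext
  show Spec.map _ ≫ Spec.map _ = 𝟙 _
  rw [← Spec.map_comp, ← Spec.map_id]
  rfl

variable {W} {W' : Type u} [AddCommGroup W'] [Module K W'] [Module Kᵐᵒᵖ W'] [IsCentralScalar K W']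

/-- The map of neighbourhoods given by a linear map. -/
def dmap (l : W →ₗ[K] W') : TW (k := k) K W' ⟶ TW K W :=
  Over.homMk (Spec.map (CommRingCat.ofHom (TrivSqZeroExt.map l).toRingHom)) (by
    show Spec.map _ ≫ Spec.map _ = Spec.map _
    rw [← Spec.map_comp]
    exact congrArg Spec.map (CommRingCat.hom_ext (RingHom.ext fun c => TrivSqZeroExt.map_inl l _)))

theorem dmap_pr (l : W →ₗ[K] W') : dmap (k := k) K l ≫ pr K W = pr K W' := by
  apply Over.OverMorphism.ext
  show Spec.map _ ≫ Spec.map _ = Spec.map _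
  rw [← Spec.map_comp]
  exact congrArg Spec.map (CommRingCat.hom_ext (RingHom.ext fun c => TrivSqZeroExt.map_inl l c))

theorem pt_dmap (l : W →ₗ[K] W') : pt (k := k) K W' ≫ dmap K l = pt K W := by
  apply Over.OverMorphism.ext
  show Spec.map _ ≫ Spec.map _ = Spec.map _
  rw [← Spec.map_comp]
  exact congrArg Spec.map (CommRingCat.hom_ext (RingHom.ext fun c => TrivSqZeroExt.fst_map l c))

variable (W)

/-- The projection to the special fibre. -/
abbrev qW : PicF.XT f (TW K W) ⟶ PicF.XT f (T0 K) := PicF.XTmap f (pr K W)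

/-- The special fibre. -/
abbrev jW : PicF.XT f (T0 K) ⟶ PicF.XT f (TW K W) := PicF.XTmap f (pt K W)

variable {W}

/-- The square-zero function of a vector. -/
def eps (v : W) : Γ(PicF.XT f (TW K W), ⊤) :=
  Coh.toGlobal (PicF.XTproj f (TW K W) : _ ⟶ Spec (CommRingCat.of (TrivSqZeroExt K W))) (TrivSqZeroExt.inr v)

theorem eps_sq (v : W) : eps f K v * eps f K v = 0 := by
  show Coh.toGlobal _ (TrivSqZeroExt.inr v) * Coh.toGlobal _ (TrivSqZeroExt.inr v) = (0 : Coh.Γtop _)
  rw [← map_mul, TrivSqZeroExt.inr_mul_inr, map_zero]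

theorem pull_eps (l : W →ₗ[K] W') (v : W) : (PicF.XTmap f (dmap K l)).appTop (eps f K v) = eps f K (l v) := by
  refine (appTop_toGlobal _ (PicF.XTproj f (TW K W') : _ ⟶ Spec (CommRingCat.of (TrivSqZeroExt K W')))
    (TrivSqZeroExt.map l).toRingHom _ (GrothLib.PicSep26.isPullback_XTmap f (dmap K l)).w _).trans ?_
  exact congrArg (fun a => (show Γ(PicF.XT f (TW K W'), ⊤) from Coh.toGlobal _ a)) (TrivSqZeroExt.map_inr l v)

theorem eps_smul (c : K) (v : W) :
    eps f K (c • v) = (qW f K W).appTop (show Γ(PicF.XT f (T0 K), ⊤) from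
      Coh.toGlobal (PicF.XT f (T0 (k := k) K) ↘ Spec (CommRingCat.of K)) c) * eps f K v := by
  refine Eq.trans ?_ (congrArg (· * eps f K v) (appTop_toGlobal (A := K) _
    (PicF.XTproj f (TW K W) : _ ⟶ Spec (CommRingCat.of (TrivSqZeroExt K W)))
    (TrivSqZeroExt.inlHom K W) _ (GrothLib.PicSep26.isPullback_XTmap f (pr K W)).w c).symm)
  show Coh.toGlobal _ _ = (Coh.toGlobal _ _ * Coh.toGlobal _ _ : Coh.Γtop _)
  rw [← map_mul]
  exact congrArg _ (TrivSqZeroExt.inl_mul_inr c v).symm

theorem isSplit : IsSplit (jW f K K) (qW f K K) (eps f K (1 : K)) := by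
  let R := TrivSqZeroExt K K
  let φ : R →+* K := (TrivSqZeroExt.fstHom K K K).toRingHom
  let g : PicF.XT f (TW K K) ⟶ Spec (CommRingCat.of R) := PicF.XTproj f (TW K K)
  let t : R := TrivSqZeroExt.inr 1
  have H : IsPullback (jW f K K) (PicF.XTproj f (T0 K)) g (Spec.map (CommRingCat.ofHom φ)) :=
    GrothLib.PicSep26.isPullback_XTmap f (pt K K)
  have hφ : Function.Surjective φ := fun a => ⟨TrivSqZeroExt.inl a, TrivSqZeroExt.fst_inl K a⟩
  have hmem : ∀ a : R, φ a = 0 → ∃ b, b * t = a := fun a ha => by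
    refine ⟨TrivSqZeroExt.inl a.snd, TrivSqZeroExt.ext ?_ ?_⟩
    · rw [TrivSqZeroExt.fst_mul, show t.fst = 0 from TrivSqZeroExt.fst_inr K 1, mul_zero]
      exact ha.symm
    · rw [show t = TrivSqZeroExt.inr 1 from rfl, TrivSqZeroExt.inl_mul_inr, TrivSqZeroExt.snd_inr, smul_eq_mul,
        mul_one]
  have hker : RingHom.ker φ = Ideal.span {t} := by
    ext a
    rw [RingHom.mem_ker, Ideal.mem_span_singleton']
    refine ⟨hmem a, ?_⟩
    rintro ⟨b, rfl⟩
    rw [map_mul, show φ t = 0 from TrivSqZeroExt.fst_inr K 1, mul_zero]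
  have hann : ∀ a : R, a * t = 0 → a ∈ RingHom.ker φ := fun a ha => by
    have h1 := congrArg TrivSqZeroExt.snd ha
    rw [TrivSqZeroExt.snd_mul, show t.fst = 0 from TrivSqZeroExt.fst_inr K 1,
      show t.snd = 1 from TrivSqZeroExt.snd_inr K 1, TrivSqZeroExt.snd_zero] at h1
    simp at h1
    exact h1
  haveI hflat : Flat g := by
    haveI : Flat f := by
      haveI : Subsingleton ↥(Spec (CommRingCat.of k)) := inferInstanceAs (Subsingleton (PrimeSpectrum k))
      haveI : IsIntegral (Spec (CommRingCat.of k)) := inferInstance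
      infer_instance
    exact inferInstanceAs (Flat (pullback.snd f (TW (k := k) K K).hom))
  haveI haff : IsAffineHom (qW f K K) :=
    MorphismProperty.of_isPullback (P := @IsAffineHom) (GrothLib.PicSep26.isPullback_XTmap f (pr K K)).flip
      (inferInstanceAs (IsAffineHom (Spec.map (CommRingCat.ofHom (TrivSqZeroExt.inlHom K K)))))
  haveI : Surjective (Spec.map (CommRingCat.ofHom φ)) := by
    refine ⟨fun p => ?_⟩
    haveI : Subsingleton (PrimeSpectrum R) := ⟨fun P Q => by
      have key : ∀ P : PrimeSpectrum R, P.asIdeal = RingHom.ker φ := fun P => by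
        refine le_antisymm (fun a ha => ?_) fun a ha => ?_
        · rw [RingHom.mem_ker]
          by_contra h0
          exact P.isPrime.ne_top (Ideal.eq_top_of_isUnit_mem _ ha
            (TrivSqZeroExt.isUnit_iff_isUnit_fst.2 (isUnit_iff_ne_zero.2 h0)))
        · obtain ⟨b, rfl⟩ := hmem a ha
          exact Ideal.mul_mem_left _ b (P.isPrime.mem_of_pow_mem 2
            (by rw [pow_two]; show t * t ∈ _; rw [TrivSqZeroExt.inr_mul_inr]; exact zero_mem _))
      exact PrimeSpectrum.ext ((key P).trans (key Q).symm)⟩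
    exact ⟨(default : PrimeSpectrum K), Subsingleton.elim (α := PrimeSpectrum R) _ _⟩
  haveI : Surjective (jW f K K) := MorphismProperty.of_isPullback (P := @Surjective) H.flip inferInstance
  have hcomp : jW f K K ≫ qW f K K = 𝟙 _ := by
    rw [← XTmap_comp, pt_pr, XTmap_id]
  have hres : ∀ V : (PicF.XT f (TW K K)).Opens, res (le_top : V ≤ ⊤) (eps f K (1 : K)) = Cube.cst g V t := by
    intro V
    have h1 : eps f K (1 : K) = Cube.cst g ⊤ t := by
      show g.appTop _ = (g.appLE ⊤ ⊤ le_top).hom _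
      rw [Scheme.Hom.appTop, Scheme.Hom.app_eq_appLE]
      rfl
    rw [h1, Cube.res_cst]
  have hkerV : ∀ {V : (PicF.XT f (T0 K)).Opens}, IsAffineOpen V →
      RingHom.ker ((jW f K K).app (qW f K K ⁻¹ᵁ V)).hom = Ideal.span {Cube.cst g (qW f K K ⁻¹ᵁ V) t} := fun {V} hV => by
    rw [UnitsThick26.ker_app_of_isPullback H hφ (hV.preimage (qW f K K)), hker, Ideal.map_span, Set.image_singleton]
  refine ⟨hcomp, (jW f K K).surjective, eps_sq f K 1, ?_, fun V hV b hb => ?_, fun V hV a e ha => ?_⟩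
  · refine (appTop_toGlobal g (PicF.XTproj f (T0 K) : _ ⟶ Spec (CommRingCat.of K)) φ _ H.w t).trans ?_
    show Coh.toGlobal _ (φ t) = (0 : Coh.Γtop _)
    rw [show φ t = 0 from TrivSqZeroExt.fst_inr K 1, map_zero]
  all_goals
    have e0 : V ≤ jW f K K ⁻¹ᵁ (qW f K K ⁻¹ᵁ V) := fun x hx => by
      show qW f K K (jW f K K x) ∈ V
      rwa [show qW f K K (jW f K K x) = x from congrArg (fun m : PicF.XT f (T0 K) ⟶ PicF.XT f (T0 K) => m x) hcomp]
    have e1 : jW f K K ⁻¹ᵁ (qW f K K ⁻¹ᵁ V) ≤ V := fun x hx => by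
      rwa [← show qW f K K (jW f K K x) = x from congrArg (fun m : PicF.XT f (T0 K) ⟶ PicF.XT f (T0 K) => m x) hcomp]
    have hq : ∀ z : Γ(PicF.XT f (T0 K), V), (jW f K K).appLE (qW f K K ⁻¹ᵁ V) V e0
        ((qW f K K).appLE V (qW f K K ⁻¹ᵁ V) le_rfl z) = z := fun z => by
      rw [← CommRingCat.comp_apply, Scheme.Hom.appLE_comp_appLE]
      have key : ∀ (m : PicF.XT f (T0 K) ⟶ PicF.XT f (T0 K)) (_ : m = 𝟙 _) (e : V ≤ m ⁻¹ᵁ V),
          m.appLE V V e z = z := by
        rintro m rfl e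
        simp [Scheme.Hom.appLE]
        erw [CategoryTheory.Functor.map_id]
        rfl
      exact key _ hcomp _
    have happ : ∀ z : Γ(PicF.XT f (TW K K), qW f K K ⁻¹ᵁ V),
        (jW f K K).appLE (qW f K K ⁻¹ᵁ V) V e0 z = 0 ↔ (jW f K K).app (qW f K K ⁻¹ᵁ V) z = 0 := by
      intro z
      rw [Scheme.Hom.app_eq_appLE]
      constructor
      · intro h
        have := congrArg (res e1) h
        erw [GrothLib.Ample.res_appLE, map_zero] at this
        exact this
      · intro h
        have := congrArg (res e0) h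
        erw [GrothLib.Ample.res_appLE, map_zero] at this
        exact this
  · rw [hres, mul_comm] at hb
    have h1 : (qW f K K).appLE V (qW f K K ⁻¹ᵁ V) le_rfl b ∈ (RingHom.ker φ).map (Cube.cst g (qW f K K ⁻¹ᵁ V)) :=
      UnitsThick26.mem_map_of_mul_eq_zero _ (UnitsThick26.flat_cst (g := g) (hV.preimage (qW f K K))) hann hb
    rw [← UnitsThick26.ker_app_of_isPullback H hφ (hV.preimage (qW f K K)), RingHom.mem_ker] at h1
    exact (hq b).symm.trans ((happ _).2 h1)
  · have h1 : a ∈ RingHom.ker ((jW f K K).app (qW f K K ⁻¹ᵁ V)).hom := RingHom.mem_ker.2 ((happ a).1 ha)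
    rw [hkerV hV, Ideal.mem_span_singleton'] at h1
    obtain ⟨y, hy⟩ := h1
    let b := (jW f K K).appLE (qW f K K ⁻¹ᵁ V) V e0 y
    have h2 : y - (qW f K K).appLE V (qW f K K ⁻¹ᵁ V) le_rfl b ∈
        RingHom.ker ((jW f K K).app (qW f K K ⁻¹ᵁ V)).hom := by
      rw [RingHom.mem_ker]
      refine (happ _).1 ?_
      rw [map_sub, hq, sub_self]
    rw [hkerV hV, Ideal.mem_span_singleton'] at h2
    obtain ⟨z, hz⟩ := h2
    refine ⟨b, ?_⟩
    have htt : Cube.cst g (qW f K K ⁻¹ᵁ V) t * Cube.cst g (qW f K K ⁻¹ᵁ V) t = 0 := by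
      rw [← map_mul, TrivSqZeroExt.inr_mul_inr, map_zero]
    rw [hres]
    linear_combination -hy - Cube.cst g (qW f K K ⁻¹ᵁ V) t * hz + z * htt

variable {n : ℕ} (x : Fin n → Coh.HH (PicF.XT f (T0 (k := k) K)) (Coh.structureModule _) 1)

/-- The universal first order deformation of the structure sheaf attached to classes. -/
def xiPic : Cube.Pic (PicF.XT f (TW K (Fin n → K))) :=
  ∏ i, twHom (qW f K (Fin n → K)) (eps_sq f K (Pi.single i 1)) (Multiplicative.ofAdd (x i))

/-- The linear form of a vector of coefficients. -/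
def dot (c : Fin n → K) : (Fin n → K) →ₗ[K] K := ∑ i, c i • LinearMap.proj i

theorem dot_single (c : Fin n → K) (i : Fin n) : dot K c (Pi.single i 1) = c i := by
  simp [dot, Pi.single_apply]

theorem twHom_congr {X Y : Scheme.{u}} {q q' : Y ⟶ X} {w w' : Γ(Y, ⊤)} (hw : w * w = 0) (hw' : w' * w' = 0)
    (hq : q = q') (h : w = w') (z : Multiplicative (Coh.HH X (Coh.structureModule X) 1)) :
    twHom q hw z = twHom q' hw' z := by
  subst hq h
  rfl

theorem pull_xiPic (c : Fin n → K) : Cube.pull (PicF.XTmap f (dmap K (dot K c))) (xiPic f K x) =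
    twHom (qW f K K) (eps_sq f K (1 : K)) (Multiplicative.ofAdd (∑ i, c i • x i)) := by
  rw [xiPic, map_prod, ofAdd_sum, map_prod]
  refine Finset.prod_congr rfl fun i _ => ?_
  have hw' : (PicF.XTmap f (dmap K (dot K c))).appTop (eps f K (Pi.single i 1)) *
      (PicF.XTmap f (dmap K (dot K c))).appTop (eps f K (Pi.single i 1)) = 0 := by
    rw [pull_eps, eps_sq]
  rw [pull_twHom _ _ _ hw']
  have e : (PicF.XTmap f (dmap K (dot K c))).appTop (eps f K (Pi.single i 1)) = eps f K (c i • (1 : K)) := by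
    rw [pull_eps, dot_single, smul_eq_mul, mul_one]
  rw [twHom_congr hw' (sq_mul_zero (eps_sq f K (1 : K)) _) (by rw [← XTmap_comp, dmap_pr])
    (e.trans (eps_smul f K (c i) (1 : K))), twHom_smul]
  rfl

theorem pull_jW_xiPic : Cube.pull (jW f K (Fin n → K)) (xiPic f K x) = 1 := by
  rw [xiPic, map_prod]
  refine Finset.prod_eq_one fun i _ => ?_
  have h0 : (jW f K (Fin n → K)).appTop (eps f K (Pi.single i (1 : K) : Fin n → K)) = 0 := by
    refine (appTop_toGlobal _ (PicF.XTproj f (T0 K) : _ ⟶ Spec (CommRingCat.of K))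
      (TrivSqZeroExt.fstHom K K (Fin n → K)).toRingHom _
      (GrothLib.PicSep26.isPullback_XTmap f (pt K (Fin n → K))).w _).trans ?_
    refine Eq.trans (congrArg (fun r => (show Γ(PicF.XT f (T0 (k := k) K), ⊤) from
      Coh.toGlobal (PicF.XTproj f (T0 K) : _ ⟶ Spec (CommRingCat.of K)) r))
      (show (TrivSqZeroExt.fstHom K K (Fin n → K)).toRingHom
        (TrivSqZeroExt.inr (Pi.single i (1 : K) : Fin n → K)) = 0 from TrivSqZeroExt.fst_inr K (Pi.single i (1 : K) : Fin n → K))) ?_
    exact map_zero _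
  have h00 : (jW f K (Fin n → K)).appTop (eps f K (Pi.single i 1)) *
      (jW f K (Fin n → K)).appTop (eps f K (Pi.single i 1)) = 0 := by rw [h0, mul_zero]
  rw [pull_twHom _ _ _ h00]
  obtain ⟨c, hc⟩ := PicH1.exists_cl_eq (x i)
  rw [← hc, twHom_cl, twCls_of_eq_zero _ _ h0]

/-- A universal first order deformation of the structure sheaf. -/
theorem exists_universal [IsProper f] :
    ∃ ξ : Cube.Pic (PicF.XT f (TW (k := k) K
        (Fin (Module.finrank K (Coh.HH (PicF.XT f (T0 (k := k) K)) (Coh.structureModule _) 1)) → K))),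
      Cube.pull (jW f K _) ξ = 1 ∧
      ∀ p : Cube.Pic (PicF.XT f (TW (k := k) K K)), Cube.pull (jW f K K) p = 1 →
        ∃! c, Cube.pull (PicF.XTmap f (dmap K (dot K c))) ξ = p := by
  let X₀ := PicF.XT f (T0 (k := k) K)
  haveI : IsProper (X₀ ↘ Spec (CommRingCat.of K)) :=
    inferInstanceAs (IsProper (pullback.snd f (T0 (k := k) K).hom))
  haveI : Module.Finite K (Coh.HH X₀ (Coh.structureModule X₀) 1) :=
    Euler.finiteDimensional_HH K (Euler.isCoh_of_isInvertible Euler.isInvertible_structure) 1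
  let b := Module.finBasis K (Coh.HH X₀ (Coh.structureModule X₀) 1)
  refine ⟨xiPic f K b, pull_jW_xiPic f K b, fun p hp => ?_⟩
  obtain ⟨z, hz⟩ := (isSplit f K).exists_twHom_eq p hp
  refine ⟨fun i => b.repr z.toAdd i, ?_, fun c hc => ?_⟩
  · show Cube.pull _ _ = p
    rw [pull_xiPic, b.sum_repr, ← hz]
    rfl
  · change Cube.pull _ _ = p at hc
    rw [pull_xiPic, ← hz] at hc
    have h := congrArg Multiplicative.toAdd ((isSplit f K).twHom_injective hc)
    funext i
    rw [← h, toAdd_ofAdd]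
    exact (congrFun (b.repr_sum_self c) i).symm

end GrothLib.PicTan26
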