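import Groth.Agent.Lib.LocalHilb26.StalkRep
import Groth.Agent.Lib.LocalHilb26.HomSetTangent
import Mathlib.RingTheory.TensorProduct.Basic
import Mathlib.LinearAlgebra.Dimension.Constructions
import Mathlib.LinearAlgebra.Dimension.Free
import Mathlib.Algebra.TrivSqZeroExt.Basic

/-!
# Cotangent dimension from a universal first order point
-/

universe u

set_option backward.isDefEq.respectTransparency false

open CategoryTheory AlgebraicGeometry IsLocalRing TensorProduct
open GrothLib.LocalHilb26 (dPart resPart res_mem_sq)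

noncomputable section

namespace GrothLib.PicTan26

variable {k : Type u} [Field k] {A : Type u} [CommRing A] [IsLocalRing A] [Algebra k A] (res : A →ₐ[k] k)
  {K : Type u} [Field K] [Algebra k K]
  {W : Type u} [AddCommGroup W] [Module k W] [Module K W] [IsScalarTower k K W] [Module Kᵐᵒᵖ W]
  [IsCentralScalar K W]

/-- A first order map over the rational point. -/
structure IsFirstOrder (ψ : A →+* TrivSqZeroExt K W) : Prop where
  base : ∀ c : k, ψ (algebraMap k A c) = TrivSqZeroExt.inl (algebraMap k K c)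
  point : ∀ a, (ψ a).fst = algebraMap k K (res a)

/-- The first order map of a linear map on the cotangent space. -/
def foOfLinear (l : CotangentSpace A →ₗ[k] W) : A →+* TrivSqZeroExt K W where
  toFun a := ((algebraMap k K (res a), l (dPart res a)) : TrivSqZeroExt K W)
  map_one' := TrivSqZeroExt.ext (show algebraMap k K (res 1) = 1 by rw [map_one, map_one])
    (show l (dPart res 1) = 0 by rw [GrothLib.LocalHilb26.dPart_one, map_zero])
  map_mul' a b := TrivSqZeroExt.ext
    (show algebraMap k K (res (a * b)) = algebraMap k K (res a) * algebraMap k K (res b) by rw [map_mul, map_mul])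
    (by
      show l (dPart res (a * b)) = algebraMap k K (res a) • l (dPart res b) +
        MulOpposite.op (algebraMap k K (res b)) • l (dPart res a)
      rw [GrothLib.LocalHilb26.dPart_mul, map_add, map_smul, map_smul, op_smul_eq_smul, algebraMap_smul, algebraMap_smul])
  map_zero' := TrivSqZeroExt.ext (show algebraMap k K (res 0) = 0 by rw [map_zero, map_zero])
    (show l (dPart res 0) = 0 by rw [map_zero, map_zero])
  map_add' a b := TrivSqZeroExt.ext
    (show algebraMap k K (res (a + b)) = algebraMap k K (res a) + algebraMap k K (res b) by rw [map_add, map_add])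
    (show l (dPart res (a + b)) = l (dPart res a) + l (dPart res b) by rw [map_add, map_add])

theorem snd_foOfLinear (l : CotangentSpace A →ₗ[k] W) (a : A) :
    (foOfLinear (K := K) res l a).snd = l (dPart res a) := rfl

theorem isFirstOrder_foOfLinear (l : CotangentSpace A →ₗ[k] W) : IsFirstOrder res (foOfLinear (K := K) res l) where
  base c := TrivSqZeroExt.ext (show algebraMap k K (res (algebraMap k A c)) = algebraMap k K c by
    rw [AlgHom.commutes, Algebra.algebraMap_self_apply])
    (show l (dPart res (algebraMap k A c)) = 0 by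
      rw [Algebra.algebraMap_eq_smul_one, map_smul, GrothLib.LocalHilb26.dPart_one, smul_zero, map_zero])
  point _ := rfl

theorem exists_foOfLinear {ψ : A →+* TrivSqZeroExt K W} (h : IsFirstOrder res ψ) :
    ∃ l : CotangentSpace A →ₗ[k] W, foOfLinear res l = ψ := by
  let D : A →ₗ[k] W :=
    { toFun := fun a => (ψ a).snd
      map_add' := fun a b => by rw [map_add, TrivSqZeroExt.snd_add]
      map_smul' := fun c a => by
        rw [Algebra.smul_def, map_mul, h.base, TrivSqZeroExt.snd_mul, TrivSqZeroExt.fst_inl, TrivSqZeroExt.snd_inl,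
          smul_zero, add_zero, RingHom.id_apply, algebraMap_smul] }
  let f : maximalIdeal A →ₗ[k] W := D.comp ((maximalIdeal A).subtype.restrictScalars k)
  have hf : LinearMap.ker ((maximalIdeal A).toCotangent.restrictScalars k) ≤ LinearMap.ker f := by
    intro x hx
    have hx' : (x : A) ∈ maximalIdeal A ^ 2 := (Ideal.toCotangent_eq_zero _ _).1 hx
    show (ψ (x : A)).snd = 0
    rw [pow_two] at hx'
    refine Submodule.mul_induction_on hx' (fun a ha b hb => ?_) fun a b ha hb => ?_
    · rw [map_mul, TrivSqZeroExt.snd_mul, h.point, h.point, res_mem_sq res ha, res_mem_sq res hb, map_zero,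
        zero_smul, MulOpposite.op_zero, zero_smul, add_zero]
    · rw [map_add, TrivSqZeroExt.snd_add, ha, hb, add_zero]
  let e := LinearMap.quotKerEquivOfSurjective ((maximalIdeal A).toCotangent.restrictScalars k)
    (maximalIdeal A).toCotangent_surjective
  refine ⟨(Submodule.liftQ _ f hf).comp e.symm.toLinearMap, RingHom.ext fun a =>
    TrivSqZeroExt.ext (h.point a).symm ?_⟩
  have key : e.symm (dPart res a) = Submodule.Quotient.mk (resPart res a) := by
    rw [LinearEquiv.symm_apply_eq]; rfl
  show (Submodule.liftQ _ f hf) (e.symm (dPart res a)) = _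
  rw [key, Submodule.liftQ_apply]
  show (ψ (a - algebraMap k A (res a))).snd = _
  rw [map_sub, h.base, TrivSqZeroExt.snd_sub, TrivSqZeroExt.snd_inl, sub_zero]

theorem foOfLinear_injective : Function.Injective (foOfLinear (K := K) (W := W) res) := fun l m e =>
  LinearMap.ext fun x => by
    obtain ⟨a, rfl⟩ := GrothLib.LocalHilb26.dPart_surjective res x
    rw [← snd_foOfLinear (K := K), ← snd_foOfLinear (K := K), e]

include res in
/-- A universal first order map computes the cotangent dimension. -/
theorem finrank_cotangent_eq {n : ℕ} (Φ : A →+* TrivSqZeroExt K (Fin n → K)) (hΦ : IsFirstOrder res Φ)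
    (dt : (Fin n → K) → ((Fin n → K) →ₗ[K] K)) (hdt : Function.Bijective dt)
    (huniv : ∀ ψ : A →+* TrivSqZeroExt K K, IsFirstOrder res ψ →
      ∃! c, (TrivSqZeroExt.map (dt c)).toRingHom.comp Φ = ψ) :
    Module.finrank (ResidueField A) (CotangentSpace A) = n := by
  obtain ⟨l, rfl⟩ := exists_foOfLinear res hΦ
  let M : K ⊗[k] CotangentSpace A →ₗ[K] (Fin n → K) := l.liftBaseChange K
  have hM : Function.Bijective M.dualMap := by
    refine ⟨fun δ δ' e => ?_, fun δ => ?_⟩
    · obtain ⟨c, rfl⟩ := hdt.2 δ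
      obtain ⟨c', rfl⟩ := hdt.2 δ'
      have key : ∀ a : A, dt c (l (dPart res a)) = dt c' (l (dPart res a)) := fun a => by
        have := LinearMap.congr_fun e ((1 : K) ⊗ₜ[k] dPart res a)
        simpa [M] using this
      refine congrArg dt ((huniv _ (isFirstOrder_foOfLinear res (((dt c').restrictScalars k).comp l))).unique ?_ ?_)
      · refine RingHom.ext fun a => TrivSqZeroExt.ext (TrivSqZeroExt.fst_map _ _) ?_
        show (TrivSqZeroExt.map (dt c) _).snd = _
        rw [TrivSqZeroExt.snd_map]
        exact key a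
      · refine RingHom.ext fun a => TrivSqZeroExt.ext (TrivSqZeroExt.fst_map _ _) ?_
        show (TrivSqZeroExt.map (dt c') _).snd = _
        rw [TrivSqZeroExt.snd_map]
        rfl
    · let l' : CotangentSpace A →ₗ[k] K := (δ.restrictScalars k).comp (TensorProduct.mk k K _ 1)
      obtain ⟨c, hc, -⟩ := huniv _ (isFirstOrder_foOfLinear res l')
      refine ⟨dt c, TensorProduct.AlgebraTensorModule.curry_injective (LinearMap.ext_ring (LinearMap.ext fun x => ?_))⟩
      obtain ⟨a, rfl⟩ := GrothLib.LocalHilb26.dPart_surjective res x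
      have := congrArg TrivSqZeroExt.snd (RingHom.congr_fun hc a)
      change (TrivSqZeroExt.map (dt c) _).snd = _ at this
      rw [TrivSqZeroExt.snd_map] at this
      show dt c (M ((1 : K) ⊗ₜ[k] dPart res a)) = δ ((1 : K) ⊗ₜ[k] dPart res a)
      simpa [M, l', snd_foOfLinear] using this
  have h1 := (LinearEquiv.ofBijective M (LinearMap.dualMap_bijective_iff.1 hM)).finrank_eq
  rw [Module.finrank_baseChange, Module.finrank_fin_fun] at h1
  haveI : IsScalarTower k (ResidueField A) (CotangentSpace A) := IsScalarTower.of_algebraMap_smul fun c x => by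
    obtain ⟨y, rfl⟩ := (maximalIdeal A).toCotangent_surjective x
    rw [IsScalarTower.algebraMap_apply k A (ResidueField A), algebraMap_smul, algebraMap_smul]
  have hbij : Function.Bijective (algebraMap k (ResidueField A)) := by
    refine ⟨RingHom.injective _, fun y => ?_⟩
    obtain ⟨a, rfl⟩ := IsLocalRing.residue_surjective y
    refine ⟨res a, ?_⟩
    rw [IsScalarTower.algebraMap_apply k A (ResidueField A), eq_comm, ← sub_eq_zero]
    show IsLocalRing.residue A a - IsLocalRing.residue A (algebraMap k A (res a)) = 0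
    rw [← map_sub, IsLocalRing.residue_eq_zero_iff]
    exact GrothLib.LocalHilb26.sub_res_mem res a
  have hκ : Module.finrank k (ResidueField A) = 1 := by
    let e : k ≃ₗ[k] ResidueField A := LinearEquiv.ofBijective (Algebra.linearMap k (ResidueField A)) hbij
    rw [← e.finrank_eq, Module.finrank_self]
  rw [← h1, ← Module.finrank_mul_finrank k (ResidueField A) (CotangentSpace A), hκ, one_mul]

section Scheme

variable {P : Scheme.{u}} (π : P ⟶ Spec (CommRingCat.of k)) (p₀ : Spec (CommRingCat.of k) ⟶ P)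
  (hp₀ : p₀ ≫ π = 𝟙 _)

theorem isLocalRing_tsze (W : Type u) [AddCommGroup W] [Module K W] [Module Kᵐᵒᵖ W] [IsCentralScalar K W] :
    IsLocalRing (TrivSqZeroExt K W) :=
  IsLocalRing.of_isUnit_or_isUnit_one_sub_self fun a => by
    rw [TrivSqZeroExt.isUnit_iff_isUnit_fst, TrivSqZeroExt.isUnit_iff_isUnit_fst, TrivSqZeroExt.fst_sub,
      TrivSqZeroExt.fst_one]
    exact IsLocalRing.isUnit_or_isUnit_one_sub_self _

/-- A first order point of a scheme at a rational point. -/
structure IsPointAt (h : Spec (CommRingCat.of (TrivSqZeroExt K W)) ⟶ P) : Prop where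
  over : h ≫ π = Spec.map (CommRingCat.ofHom ((TrivSqZeroExt.inlHom K W).comp (algebraMap k K)))
  point : Spec.map (CommRingCat.ofHom (TrivSqZeroExt.fstHom K K W).toRingHom) ≫ h =
    Spec.map (CommRingCat.ofHom (algebraMap k K)) ≫ p₀

include hp₀ in
theorem exists_firstOrder {h : Spec (CommRingCat.of (TrivSqZeroExt K W)) ⟶ P} (hh : IsPointAt π p₀ h) :
    letI := GrothLib.LocalHilb26.stalkAlgebra π p₀
    ∃ ψ : (GrothLib.LocalHilb26.ptStalk p₀ : Type u) →+* TrivSqZeroExt K W,
      IsFirstOrder (GrothLib.LocalHilb26.stalkRes π p₀ hp₀) ψ ∧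
      Spec.map (CommRingCat.ofHom ψ) ≫ P.fromSpecStalk _ = h := by
  letI := GrothLib.LocalHilb26.stalkAlgebra π p₀
  haveI := isLocalRing_tsze (K := K) W
  let φ : TrivSqZeroExt K W →+* K := (TrivSqZeroExt.fstHom K K W).toRingHom
  haveI : IsLocalHom (CommRingCat.ofHom φ).hom :=
    IsLocalHom.of_surjective φ fun a => ⟨TrivSqZeroExt.inl a, TrivSqZeroExt.fst_inl W a⟩
  haveI : IsLocalHom (CommRingCat.ofHom (algebraMap k K)).hom :=
    inferInstanceAs (IsLocalHom (algebraMap k K))
  have hcp : h (closedPoint (CommRingCat.of (TrivSqZeroExt K W))) = p₀ (closedPoint k) := by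
    have e := congrArg (fun m : Spec (CommRingCat.of K) ⟶ P => m (closedPoint K)) hh.point
    refine Eq.trans ?_ (e.trans (congrArg p₀ (Spec_closedPoint (f := CommRingCat.ofHom (algebraMap k K)))))
    exact congrArg h (Spec_closedPoint (f := CommRingCat.ofHom φ)).symm
  obtain ⟨ψ, hψl, hψ⟩ : ∃ ψ : GrothLib.LocalHilb26.ptStalk p₀ ⟶ CommRingCat.of (TrivSqZeroExt K W),
      IsLocalHom ψ.hom ∧ Spec.map ψ ≫ P.fromSpecStalk _ = h := by
    have aux : ∀ (x : P), x = p₀ (closedPoint k) → ∀ (χ : P.presheaf.stalk x ⟶ CommRingCat.of (TrivSqZeroExt K W)),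
        IsLocalHom χ.hom → Spec.map χ ≫ P.fromSpecStalk x = h →
        ∃ ψ : GrothLib.LocalHilb26.ptStalk p₀ ⟶ CommRingCat.of (TrivSqZeroExt K W),
          IsLocalHom ψ.hom ∧ Spec.map ψ ≫ P.fromSpecStalk _ = h := by
      rintro x rfl χ h1 h2
      exact ⟨χ, h1, h2⟩
    exact aux _ hcp _ inferInstance (Scheme.Spec_stalkClosedPointTo_fromSpecStalk h)
  haveI := hψl
  refine ⟨ψ.hom, ⟨fun c => ?_, fun a => ?_⟩, hψ⟩
  · have hc : GrothLib.LocalHilb26.stalkHom π p₀ ≫ ψ =
        CommRingCat.ofHom ((TrivSqZeroExt.inlHom K W).comp (algebraMap k K)) := by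
      apply Spec.map_injective
      rw [Spec.map_comp, ← GrothLib.LocalHilb26.fromSpecStalk_comp, ← Category.assoc, hψ, hh.over]
    exact ConcreteCategory.congr_hom hc c
  · haveI : IsLocalHom (ψ ≫ CommRingCat.ofHom φ).hom :=
      RingHom.isLocalHom_comp (CommRingCat.ofHom φ).hom ψ.hom
    haveI : IsLocalHom (Scheme.stalkClosedPointTo p₀ ≫ CommRingCat.ofHom (algebraMap k K)).hom :=
      RingHom.isLocalHom_comp (CommRingCat.ofHom (algebraMap k K)).hom (Scheme.stalkClosedPointTo p₀).hom
    have hr : ψ ≫ CommRingCat.ofHom φ = Scheme.stalkClosedPointTo p₀ ≫ CommRingCat.ofHom (algebraMap k K) := by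
      refine GrothLib.LocalHilb26.specMap_fromSpecStalk_injective ?_
      rw [Spec.map_comp, Category.assoc, hψ, Spec.map_comp, Category.assoc]
      exact hh.point.trans (congrArg (_ ≫ ·) (Scheme.Spec_stalkClosedPointTo_fromSpecStalk p₀).symm)
    exact ConcreteCategory.congr_hom hr a

include hp₀ in
/-- A universal first order point computes the cotangent dimension. -/
theorem finrank_cotangent_eq_of_point {n : ℕ} (h : Spec (CommRingCat.of (TrivSqZeroExt K (Fin n → K))) ⟶ P)
    (hh : IsPointAt π p₀ h) (dt : (Fin n → K) → ((Fin n → K) →ₗ[K] K)) (hdt : Function.Bijective dt)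
    (huniv : ∀ g : Spec (CommRingCat.of (TrivSqZeroExt K K)) ⟶ P, IsPointAt π p₀ g →
      ∃! c, Spec.map (CommRingCat.ofHom (TrivSqZeroExt.map (dt c)).toRingHom) ≫ h = g) :
    Module.finrank (ResidueField (P.presheaf.stalk (p₀ (closedPoint k))))
      (CotangentSpace (P.presheaf.stalk (p₀ (closedPoint k)))) = n := by
  letI := GrothLib.LocalHilb26.stalkAlgebra π p₀
  obtain ⟨Φ, hΦ, rfl⟩ := exists_firstOrder π p₀ hp₀ hh
  refine finrank_cotangent_eq (GrothLib.LocalHilb26.stalkRes π p₀ hp₀) Φ hΦ dt hdt fun ψ hψ => ?_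
  haveI := isLocalRing_tsze (K := K) K
  have hloc : ∀ (m : (GrothLib.LocalHilb26.ptStalk p₀ : Type u) →+* TrivSqZeroExt K K),
      IsFirstOrder (GrothLib.LocalHilb26.stalkRes π p₀ hp₀) m → IsLocalHom (CommRingCat.ofHom m).hom := by
    intro m hm
    refine ⟨fun a ha => ?_⟩
    have h1 : IsUnit ((m a).fst) := TrivSqZeroExt.isUnit_iff_isUnit_fst.1 ha
    rw [hm.point] at h1
    exact isUnit_of_map_unit (Scheme.stalkClosedPointTo p₀).hom a (isUnit_of_map_unit (algebraMap k K) _ h1)
  have hg : IsPointAt π p₀ (Spec.map (CommRingCat.ofHom ψ) ≫ P.fromSpecStalk _) := by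
    refine ⟨?_, ?_⟩
    · rw [Category.assoc, GrothLib.LocalHilb26.fromSpecStalk_comp, ← Spec.map_comp]
      exact congrArg Spec.map (CommRingCat.hom_ext (RingHom.ext fun c => hψ.base c))
    · refine Eq.trans ?_ (congrArg (_ ≫ ·) (Scheme.Spec_stalkClosedPointTo_fromSpecStalk p₀))
      rw [← Category.assoc, ← Category.assoc, ← Spec.map_comp, ← Spec.map_comp]
      exact congrArg (fun m => Spec.map m ≫ P.fromSpecStalk _) (CommRingCat.hom_ext (RingHom.ext fun a => hψ.point a))
  have key : ∀ c, Spec.map (CommRingCat.ofHom (TrivSqZeroExt.map (dt c)).toRingHom) ≫ Spec.map (CommRingCat.ofHom Φ) ≫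
      P.fromSpecStalk _ = Spec.map (CommRingCat.ofHom ψ) ≫ P.fromSpecStalk _ →
      (TrivSqZeroExt.map (dt c)).toRingHom.comp Φ = ψ := by
    intro c hc
    rw [← Category.assoc, ← Spec.map_comp, ← CommRingCat.ofHom_comp] at hc
    haveI : IsLocalHom (CommRingCat.ofHom ((TrivSqZeroExt.map (dt c)).toRingHom.comp Φ)).hom :=
      hloc _ ⟨fun r => by rw [RingHom.comp_apply, hΦ.base]; exact TrivSqZeroExt.map_inl _ _,
        fun a => by rw [RingHom.comp_apply]; exact (TrivSqZeroExt.fst_map _ _).trans (hΦ.point a)⟩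
    haveI := hloc ψ hψ
    exact congrArg CommRingCat.Hom.hom (GrothLib.LocalHilb26.specMap_fromSpecStalk_injective hc)
  obtain ⟨c, hc, hu⟩ := huniv _ hg
  refine ⟨c, key c hc, fun c' hc' => hu c' ?_⟩
  show Spec.map _ ≫ Spec.map _ ≫ P.fromSpecStalk _ = _
  rw [← Category.assoc, ← Spec.map_comp, ← CommRingCat.ofHom_comp, hc']

end Scheme

end GrothLib.PicTan26
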