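import Groth.Agent.Lib.PicTan26.Setup
import Groth.Agent.Lib.PicTan26.Tangent
import Groth.Agent.Lib.PicH1.Pic
import Groth.Agent.Lib.Poincare.DualBC
import Groth.Agent.Lib.Hensel.Sections
import Groth.Agent.Lib.CurveMult.BaseChangeH
import Groth.Prelude.Def_PicRel2
import Mathlib.Algebra.Polynomial.Taylor
import Mathlib.RingTheory.Henselian

/-!
# The tangent space of a Picard scheme at the origin
-/

universe u

set_option backward.isDefEq.respectTransparency false

open CategoryTheory CategoryTheory.Limits AlgebraicGeometry IsLocalRing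
open GrothLib.PicH1 (picSetMap picSetMap_bijective picSetMap_pull)

noncomputable section

namespace GrothLib.PicTan26

/-- A first order neighbourhood of a field is henselian. -/
theorem henselian_tsze (K W : Type u) [Field K] [AddCommGroup W] [Module K W] [Module Kᵐᵒᵖ W]
    [IsCentralScalar K W] : HenselianLocalRing (TrivSqZeroExt K W) where
  toIsLocalRing := isLocalRing_tsze (K := K) W
  is_henselian f _ a₀ h h' := by
    haveI := isLocalRing_tsze (K := K) W
    obtain ⟨u, hu⟩ := h'
    have hm : ∀ z : TrivSqZeroExt K W, z ∈ maximalIdeal (TrivSqZeroExt K W) → z ^ 2 = 0 := by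
      intro z hz
      rw [IsLocalRing.mem_maximalIdeal, mem_nonunits_iff, TrivSqZeroExt.isUnit_iff_isUnit_fst,
        isUnit_iff_ne_zero, not_not] at hz
      rw [pow_two]
      refine TrivSqZeroExt.ext ?_ ?_
      · rw [TrivSqZeroExt.fst_mul, hz, mul_zero, TrivSqZeroExt.fst_zero]
      · rw [TrivSqZeroExt.snd_mul, hz, zero_smul, MulOpposite.op_zero, zero_smul, add_zero, TrivSqZeroExt.snd_zero]
    have hd : -(f.eval a₀) * (↑u⁻¹ : TrivSqZeroExt K W) ∈ maximalIdeal (TrivSqZeroExt K W) :=
      Ideal.mul_mem_right _ _ (neg_mem h)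
    refine ⟨a₀ + -(f.eval a₀) * (↑u⁻¹ : TrivSqZeroExt K W), ?_, by rw [add_sub_cancel_left]; exact hd⟩
    show f.eval _ = 0
    rw [Polynomial.eval_add_of_sq_eq_zero f _ _ (hm _ hd), ← hu]
    linear_combination (-(f.eval a₀)) * u.mul_inv

theorem isSepClosed_of_equiv {k k' : Type u} [Field k] [Field k'] [IsSepClosed k] (e : k ≃+* k') : IsSepClosed k' := by
  refine IsSepClosed.of_exists_root _ fun p _ hirr hsep => ?_
  have hd : p.degree ≠ 0 := (Polynomial.degree_pos_of_irreducible hirr).ne'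
  have hd' : (p.map (e.symm : k' →+* k)).degree ≠ 0 := by rwa [Polynomial.degree_map]
  obtain ⟨x, hx⟩ := IsSepClosed.exists_root _ hd' (hsep.map)
  refine ⟨e x, ?_⟩
  have h1 := congrArg e hx
  rw [Polynomial.eval_map, ← RingEquiv.coe_toRingHom, Polynomial.hom_eval₂, map_zero] at h1
  rw [← h1, Polynomial.eval]
  congr 1
  ext a
  simp

theorem isSepClosed_residueField (K W : Type u) [Field K] [IsSepClosed K] [AddCommGroup W] [Module K W]
    [Module Kᵐᵒᵖ W] [IsCentralScalar K W] [IsLocalRing (TrivSqZeroExt K W)] :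
    IsSepClosed (ResidueField (TrivSqZeroExt K W)) := by
  have hb : Function.Bijective ((residue (TrivSqZeroExt K W)).comp (TrivSqZeroExt.inlHom K W)) := by
    refine ⟨RingHom.injective _, fun y => ?_⟩
    obtain ⟨a, rfl⟩ := IsLocalRing.residue_surjective y
    refine ⟨a.fst, ?_⟩
    show residue _ (TrivSqZeroExt.inl a.fst) = residue _ a
    rw [← sub_eq_zero, ← map_sub, IsLocalRing.residue_eq_zero_iff, IsLocalRing.mem_maximalIdeal, mem_nonunits_iff,
      TrivSqZeroExt.isUnit_iff_isUnit_fst, TrivSqZeroExt.fst_sub, TrivSqZeroExt.fst_inl, sub_self]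
    exact not_isUnit_zero
  exact isSepClosed_of_equiv (RingEquiv.ofBijective _ hb)

theorem exists_section_of_covers {R : Type u} [CommRing R] [HenselianLocalRing R] [IsSepClosed (ResidueField R)]
    {ι : Type u} {U : ι → (Spec (CommRingCat.of R)).Etale} (hU : EtCoh.Covers U) :
    ∃ (i : ι) (σ : Spec (CommRingCat.of R) ⟶ (U i).left), σ ≫ (U i).hom = 𝟙 _ := by
  obtain ⟨i, y, hy⟩ := hU (closedPoint R)
  haveI : Etale (U i).hom := (U i).prop
  obtain ⟨σ, hσ, -⟩ := GrothLib.Hensel.exists_section_through (U i).hom y hy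
  exact ⟨i, σ, hσ⟩

variable {k : Type u} [Field k] {X : Scheme.{u}} {f : X ⟶ Spec (CommRingCat.of k)}
  {P : Over (Spec (CommRingCat.of k))}
  {φ : ∀ T : Over (Spec (CommRingCat.of k)), PicF.Cl (PicF.XT f T) → (T ⟶ P)}

/-- The invertible class of the structure sheaf. -/
def oneCl (Y : Scheme.{u}) : PicLoc.PicSet Y :=
  ⟨PicF.cl (Coh.structureModule Y), _, rfl, Euler.isInvertible_structure⟩

theorem picSetMap_oneCl (Y : Scheme.{u}) : picSetMap (oneCl Y) = 1 := by
  rw [PicH1.picSetMap_eq _ Euler.isInvertible_structure rfl, Cube.clsMod_eq_one_iff]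
  exact ⟨Iso.refl _⟩

theorem pullCl_oneCl {Y Z : Scheme.{u}} (g : Z ⟶ Y) :
    PicF.pullCl g (PicF.cl (Coh.structureModule Y)) = PicF.cl (Coh.structureModule Z) :=
  Quot.sound ⟨OX.pullUnitIso g⟩

theorem eq_of_locally_eq {T : Over (Spec (CommRingCat.of k))} (hsec : ∀ {ι : Type u} (U : ι → T.left.Etale),
      EtCoh.Covers U → ∃ (i : ι) (σ : T.left ⟶ (U i).left), σ ≫ (U i).hom = 𝟙 _)
    (hP : PicRel.IsRelPic f P φ) {c c' : PicF.Cl (PicF.XT f T)} (hc : PicF.IsInvertibleCl c)
    (hc' : PicF.IsInvertibleCl c') (h : φ T c = φ T c') : c = c' := by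
  obtain ⟨ι, U, hU, heq⟩ := hP.locallyInjective T c c' hc hc' h
  obtain ⟨i, σ, hσ⟩ := hsec U hU
  let s : T ⟶ PicRel.ovr T (U i) := Over.homMk σ (by
    show σ ≫ (U i).hom ≫ T.hom = T.hom
    rw [← Category.assoc, hσ, Category.id_comp])
  have hs : s ≫ PicRel.ovrHom T (U i) = 𝟙 T := Over.OverMorphism.ext hσ
  have := congrArg (PicF.pullCl (PicF.XTmap f s)) (heq i)
  rwa [DualBC.pullCl_comp, DualBC.pullCl_comp, ← XTmap_comp, hs, XTmap_id, DualBC.pullCl_id,
    DualBC.pullCl_id] at this

theorem exists_class {T : Over (Spec (CommRingCat.of k))} (hsec : ∀ {ι : Type u} (U : ι → T.left.Etale),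
      EtCoh.Covers U → ∃ (i : ι) (σ : T.left ⟶ (U i).left), σ ≫ (U i).hom = 𝟙 _)
    (hP : PicRel.IsRelPic f P φ) (g : T ⟶ P) :
    ∃ c : PicLoc.PicSet (PicF.XT f T), φ T c.1 = g := by
  obtain ⟨ι, U, hU, h⟩ := hP.locallySurjective T g
  obtain ⟨i, σ, hσ⟩ := hsec U hU
  obtain ⟨c, hc, hφ⟩ := h i
  let s : T ⟶ PicRel.ovr T (U i) := Over.homMk σ (by
    show σ ≫ (U i).hom ≫ T.hom = T.hom
    rw [← Category.assoc, hσ, Category.id_comp])
  have hs : s ≫ PicRel.ovrHom T (U i) = 𝟙 T := Over.OverMorphism.ext hσ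
  refine ⟨⟨PicF.pullCl (PicF.XTmap f s) c, PicLoc.isInvertibleCl_pullCl _ hc⟩, ?_⟩
  show φ T (PicF.pullCl (PicF.XTmap f s) c) = g
  rw [hP.natural _ _ s c hc, hφ, ← Category.assoc, hs, Category.id_comp]

theorem dot_bijective (K : Type u) [Field K] (n : ℕ) :
    Function.Bijective (dot K (n := n)) := by
  refine ⟨fun c c' h => funext fun i => by rw [← dot_single K c i, ← dot_single K c' i, h], fun δ => ?_⟩
  refine ⟨fun i => δ (Pi.single i 1), LinearMap.pi_ext fun i a => ?_⟩
  have e : (Pi.single i a : Fin n → K) = a • Pi.single i 1 := by rw [← Pi.single_smul, smul_eq_mul, mul_one]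
  rw [e, map_smul, map_smul, dot_single]

include φ in
/-- The Zariski tangent space of a Picard scheme at the origin has the dimension of `H¹(O)`. -/
theorem finrank_cotangent_relPic [IsProper f] (hP : PicRel.IsRelPic f P φ) :
    Module.finrank (ResidueField (P.left.presheaf.stalk
        ((φ (Over.mk (𝟙 (Spec (CommRingCat.of k)))) (PicF.cl (Coh.structureModule _))).left (closedPoint k))))
      (CotangentSpace (P.left.presheaf.stalk
        ((φ (Over.mk (𝟙 (Spec (CommRingCat.of k)))) (PicF.cl (Coh.structureModule _))).left (closedPoint k)))) =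
      letI : X.Over (Spec (CommRingCat.of k)) := ⟨f⟩
      Module.finrank k (Coh.HH X (Coh.structureModule X) 1) := by
  letI : X.Over (Spec (CommRingCat.of k)) := ⟨f⟩
  let K := AlgebraicClosure k
  let n := Module.finrank K (Coh.HH (PicF.XT f (T0 (k := k) K)) (Coh.structureModule _) 1)
  have hn : n = Module.finrank k (Coh.HH X (Coh.structureModule X) 1) := by
    haveI : IsProper (X ↘ Spec (CommRingCat.of k)) := inferInstanceAs (IsProper f)
    exact CurveMult.finrank_HH_structure_baseChange (algebraMap k K) (pullback.fst f (T0 (k := k) K).hom)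
      (IsPullback.of_hasPullback f (T0 (k := k) K).hom) 1
  rw [← hn]
  let T : Over (Spec (CommRingCat.of k)) := Over.mk (𝟙 (Spec (CommRingCat.of k)))
  let e₀ := φ T (PicF.cl (Coh.structureModule _))
  have hp₀ : e₀.left ≫ P.hom = 𝟙 _ := Over.w e₀
  haveI := henselian_tsze K K
  haveI := isSepClosed_residueField K K
  haveI := henselian_tsze K (Fin n → K)
  haveI : HenselianLocalRing K := inferInstance
  haveI : IsSepClosed (ResidueField K) := isSepClosed_of_equiv (RingEquiv.ofBijective (residue K)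
    ⟨RingHom.injective _, IsLocalRing.residue_surjective⟩)
  obtain ⟨ξ, hξ, huniv⟩ := exists_universal f K
  obtain ⟨c, rfl⟩ := (picSetMap_bijective _).2 ξ
  let b : T0 (k := k) K ⟶ T := Over.homMk (Spec.map (CommRingCat.ofHom (algebraMap k K))) (Category.comp_id _)
  have hone : φ (T0 K) (oneCl (PicF.XT f (T0 (k := k) K))).1 = b ≫ e₀ := by
    rw [← hP.natural _ _ b _ ⟨_, rfl, Euler.isInvertible_structure⟩, pullCl_oneCl]
    rfl
  have hres : ∀ {W : Type u} [AddCommGroup W] [Module K W] [Module Kᵐᵒᵖ W] [IsCentralScalar K W]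
      (d : PicLoc.PicSet (PicF.XT f (TW (k := k) K W))), Cube.pull (jW f K W) (picSetMap d) = 1 →
      PicF.pullCl (jW f K W) d.1 = (oneCl (PicF.XT f (T0 (k := k) K))).1 := by
    intro W _ _ _ _ d hd
    rw [← picSetMap_pull, ← picSetMap_oneCl] at hd
    exact congrArg Subtype.val ((picSetMap_bijective _).1 hd)
  refine finrank_cotangent_eq_of_point P.hom e₀.left hp₀ (φ (TW K (Fin n → K)) c.1).left ⟨?_, ?_⟩ (dot K)
    (dot_bijective K n) fun g hg => ?_
  · exact Over.w (φ (TW K (Fin n → K)) c.1)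
  · have := congrArg CommaMorphism.left ((hP.natural _ _ (pt K (Fin n → K)) c.1 c.2).symm.trans
      ((congrArg (φ (T0 K)) (hres c hξ)).trans hone))
    exact this
  · let g' : TW (k := k) K K ⟶ P := Over.homMk g hg.over
    obtain ⟨d, hd⟩ := exists_class (fun {ι} U hU => exists_section_of_covers (R := TrivSqZeroExt K K) hU) hP g'
    have hd1 : Cube.pull (jW f K K) (picSetMap d) = 1 := by
      rw [← picSetMap_pull, ← picSetMap_oneCl]
      refine congrArg picSetMap (Subtype.ext ?_)
      refine eq_of_locally_eq (fun {ι} U hU => exists_section_of_covers (R := K) hU) hP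
        (PicLoc.isInvertibleCl_pullCl _ d.2) (oneCl _).2 ?_
      rw [hP.natural _ _ (pt K K) d.1 d.2, hd, hone]
      exact Over.OverMorphism.ext hg.point
    obtain ⟨a, ha, hu⟩ := huniv _ hd1
    refine ⟨a, ?_, fun a' ha' => hu a' ?_⟩
    · change Cube.pull _ (picSetMap c) = picSetMap d at ha
      rw [← picSetMap_pull] at ha
      have h1 := congrArg Subtype.val ((picSetMap_bijective _).1 ha)
      have h2 := congrArg CommaMorphism.left (((hP.natural _ _ (dmap K (dot K a)) c.1 c.2).symm.trans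
        (congrArg (φ (TW K K)) h1)).trans hd)
      exact h2
    · show Cube.pull _ (picSetMap c) = picSetMap d
      rw [← picSetMap_pull]
      refine congrArg picSetMap (Subtype.ext ?_)
      refine eq_of_locally_eq (fun {ι} U hU => exists_section_of_covers (R := TrivSqZeroExt K K) hU) hP
        (PicLoc.isInvertibleCl_pullCl _ c.2) d.2 ?_
      rw [hP.natural _ _ (dmap K (dot K a')) c.1 c.2, hd]
      exact Over.OverMorphism.ext ha'

end GrothLib.PicTan26
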