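import Groth.Agent.Lib.PicH1.Class
import Groth.Agent.Lib.Cube.Pic
import Groth.Prelude.Def_Coh

/-!
# Invertible modules `1 + w c` attached to additive classes and a square-zero function
-/

universe u

set_option backward.isDefEq.respectTransparency false

open CategoryTheory CategoryTheory.Limits AlgebraicGeometry TopologicalSpace Opposite
open GrothLib.Ample GrothLib.PicH1

noncomputable section

namespace GrothLib.PicTan26

variable {X Y Z : Scheme.{u}}

/-- The structure sheaf as an abelian sheaf. -/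
abbrev Osh (X : Scheme.{u}) : CohTop.Ab X.toTopCat := Coh.toAb (Coh.structureModule X)

/-- The function underlying a section. -/
def sval {U : X.Opens} (s : (Osh X).obj.obj (op U)) : Γ(X, U) := s

theorem sval_rs {U V : X.Opens} (h : V ≤ U) (s : (Osh X).obj.obj (op U)) :
    sval (rs (Osh X) h s) = res h (sval s) := rfl

theorem sval_add {U : X.Opens} (s t : (Osh X).obj.obj (op U)) : sval (s + t) = sval s + sval t := rfl

theorem sval_sub {U : X.Opens} (s t : (Osh X).obj.obj (op U)) : sval (s - t) = sval s - sval t := rfl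

theorem sval_self (c : Coc (Osh X)) (i : c.ι) {W : X.Opens} (h : W ≤ c.D i) :
    res (le_inf h h) (sval (c.g i i)) = 0 := by
  have e : rs (Osh X) (le_inf h h) (c.g i i) = 0 := add_eq_left.1 (c.cocycle i i i W h h h).symm
  exact congrArg sval e

theorem sval_trans (c : Coc (Osh X)) (i j k : c.ι) {W : X.Opens} (hi : W ≤ c.D i) (hj : W ≤ c.D j)
    (hk : W ≤ c.D k) :
    res (le_inf hi hk) (sval (c.g i k)) = res (le_inf hi hj) (sval (c.g i j)) + res (le_inf hj hk) (sval (c.g j k)) :=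
  congrArg sval (c.cocycle i j k W hi hj hk)

/-- `1 + w a` on an open. -/
def one_add (q : Y ⟶ X) (w : Γ(Y, ⊤)) {U : X.Opens} {W : Y.Opens} (e : W ≤ q ⁻¹ᵁ U) (a : Γ(X, U)) : Γ(Y, W) :=
  1 + res le_top w * (q.appLE U W e).hom a

variable (q : Y ⟶ X) {w : Γ(Y, ⊤)}

theorem res_one_add {U : X.Opens} {W W' : Y.Opens} (e : W ≤ q ⁻¹ᵁ U) (h : W' ≤ W) (a : Γ(X, U)) :
    res h (one_add q w e a) = one_add q w (h.trans e) a := by
  simp only [one_add, map_add, map_one, map_mul, res_res]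
  rw [Ample.res_appLE]

theorem one_add_res {U U' : X.Opens} {W : Y.Opens} (h : U' ≤ U) (e : W ≤ q ⁻¹ᵁ U') (a : Γ(X, U)) :
    one_add q w e (res h a) = one_add q w (e.trans (q.preimage_mono h)) a := by
  simp only [one_add]
  rw [Ample.appLE_res]

theorem one_add_mul (hw : w * w = 0) {U : X.Opens} {W : Y.Opens} (e : W ≤ q ⁻¹ᵁ U) (a b : Γ(X, U)) :
    one_add q w e a * one_add q w e b = one_add q w e (a + b) := by
  have h : res (le_top : W ≤ ⊤) w * res le_top w = 0 := by rw [← map_mul, hw, map_zero]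
  simp only [one_add, map_add]
  linear_combination ((q.appLE U W e).hom a * (q.appLE U W e).hom b) * h

theorem one_add_zero {U : X.Opens} {W : Y.Opens} (e : W ≤ q ⁻¹ᵁ U) : one_add q w e 0 = 1 := by
  simp [one_add]

theorem isUnit_one_add (hw : w * w = 0) {U : X.Opens} {W : Y.Opens} (e : W ≤ q ⁻¹ᵁ U) (a : Γ(X, U)) :
    IsUnit (one_add q w e a) :=
  IsUnit.of_mul_eq_one _ (by rw [one_add_mul q hw e a (-a), add_neg_cancel, one_add_zero])

variable (hw : w * w = 0)

/-- The twisted cocycle. -/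
def tw (c : Coc (Osh X)) : Cocycle Y where
  ι := c.ι
  D i := q ⁻¹ᵁ c.D i
  g i k := one_add q w (show q ⁻¹ᵁ c.D i ⊓ q ⁻¹ᵁ c.D k ≤ q ⁻¹ᵁ (c.D i ⊓ c.D k) from le_rfl) (sval (c.g i k))
  cover := by rw [← Scheme.Hom.preimage_iSup, c.cover, Scheme.Hom.preimage_top]
  self i W h := by
    rw [res_one_add]
    have e : W ≤ q ⁻¹ᵁ c.D i := h
    have := one_add_res q (w := w) (le_inf le_rfl le_rfl : c.D i ≤ c.D i ⊓ c.D i) e (sval (c.g i i))
    rw [sval_self c i le_rfl, one_add_zero] at this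
    exact this.symm
  change i j k W hi hj hk := by
    rw [res_one_add, res_one_add, res_one_add]
    have e : W ≤ q ⁻¹ᵁ (c.D i ⊓ c.D j ⊓ c.D k) := le_inf (le_inf hi hj) hk
    have hT := sval_trans c i j k (W := c.D i ⊓ c.D j ⊓ c.D k) (inf_le_left.trans inf_le_left)
      (inf_le_left.trans inf_le_right) inf_le_right
    have h1 := one_add_res q (w := w)
      (le_inf (inf_le_left.trans inf_le_left) inf_le_right : c.D i ⊓ c.D j ⊓ c.D k ≤ c.D i ⊓ c.D k) e (sval (c.g i k))
    have h2 := one_add_res q (w := w) (inf_le_left : c.D i ⊓ c.D j ⊓ c.D k ≤ c.D i ⊓ c.D j) e (sval (c.g i j))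
    have h3 := one_add_res q (w := w)
      (le_inf (inf_le_left.trans inf_le_right) inf_le_right : c.D i ⊓ c.D j ⊓ c.D k ≤ c.D j ⊓ c.D k) e (sval (c.g j k))
    rw [← h1, ← h2, ← h3, one_add_mul q hw, hT]

theorem tw_G (c : Coc (Osh X)) (i k : c.ι) {W : Y.Opens} (hi : W ≤ q ⁻¹ᵁ c.D i) (hk : W ≤ q ⁻¹ᵁ c.D k) :
    (tw q hw c).G i k hi hk = one_add q w (show W ≤ q ⁻¹ᵁ (c.D i ⊓ c.D k) from le_inf hi hk) (sval (c.g i k)) :=
  res_one_add q _ _ _

/-- The class of the twisted cocycle. -/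
def twCls (c : Coc (Osh X)) : Cube.Pic Y := Cube.cls (tw q hw c)

theorem twCls_add (c d : Coc (Osh X)) : twCls q hw (c.add d) = twCls q hw c * twCls q hw d := by
  rw [twCls, twCls, twCls, ← Cube.cls_prod]
  refine Quotient.sound (Cube.eqv_of_map (c := tw q hw (c.add d)) (c' := (tw q hw c).prod (tw q hw d))
    id (fun _ => le_rfl) (fun _ => 1) (fun _ => isUnit_one) fun p r O hp hr => ?_)
  rw [map_one, map_one, one_mul, mul_one, Cocycle.prod_G, tw_G, tw_G, tw_G]
  have e : O ≤ q ⁻¹ᵁ ((c.add d).D p ⊓ (c.add d).D r) := le_inf hp hr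
  show _ = one_add q w _ (sval (rs (Osh X) _ (c.g p.1 r.1) + rs (Osh X) _ (d.g p.2 r.2)))
  rw [sval_add, sval_rs, sval_rs, ← one_add_mul q hw, one_add_res, one_add_res]
  rfl

theorem twCls_eq_one (c : Coc (Osh X)) (hc : c.IsTrivial) : twCls q hw c = 1 := by
  obtain ⟨l, hl⟩ := hc
  rw [twCls, Cube.cls_eq_one_iff]
  refine ⟨⟨fun i => one_add q w (inf_le_right : (⊤ : Y.Opens) ⊓ q ⁻¹ᵁ c.D i ≤ q ⁻¹ᵁ c.D i) (sval (l i)), fun i k W hi hk => ?_⟩,
    (tw q hw c).locus_eq_top_of_isUnit _ fun i => isUnit_one_add q hw _ _⟩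
  show res hi _ = res _ _ ^ 1 * res hk _
  rw [res_one_add, res_one_add, pow_one]
  erw [res_one_add]
  have e : W ≤ q ⁻¹ᵁ (c.D i ⊓ c.D k) := le_inf (hi.trans inf_le_right) (hk.trans inf_le_right)
  rw [← one_add_res q (inf_le_left : c.D i ⊓ c.D k ≤ c.D i) e,
    ← one_add_res q (inf_le_right : c.D i ⊓ c.D k ≤ c.D k) e, one_add_mul q hw]
  congr 1
  have h := congrArg sval (hl i k _ inf_le_left inf_le_right)
  rw [sval_rs, sval_sub, sval_rs, sval_rs] at h
  rw [show sval (c.g i k) = res le_rfl (sval (c.g i k)) by simp [res], h, sub_add_cancel]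

theorem twCls_eq_of_cl_eq {c d : Coc (Osh X)} (h : c.cl = d.cl) : twCls q hw c = twCls q hw d := by
  obtain ⟨e, he⟩ := exists_cl_eq (-d.cl)
  have h1 : ∀ a : Coc (Osh X), a.cl = d.cl → twCls q hw a * twCls q hw e = 1 := fun a ha => by
    rw [← twCls_add]
    refine twCls_eq_one q hw _ ((Coc.cl_eq_zero_iff _).1 ?_)
    rw [Coc.cl_add, he, ha, add_neg_cancel]
  exact mul_right_cancel ((h1 c h).trans (h1 d rfl).symm)

theorem tw_comap (u : Z ⟶ Y) (hw' : u.appTop w * u.appTop w = 0) (c : Coc (Osh X)) :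
    Cube.pull u (twCls q hw c) = twCls (u ≫ q) hw' c := by
  rw [twCls, twCls, Cube.pull_cls]
  refine Quotient.sound (Cube.eqv_of_map (c := (tw q hw c).comap u) (c' := tw (u ≫ q) hw' c)
    id (fun _ => le_rfl) (fun _ => 1) (fun _ => isUnit_one) fun i k O hi hk => ?_)
  rw [map_one, map_one, one_mul, mul_one, Cocycle.comap_G]
  refine (tw_G (u ≫ q) hw' c i k _ _).trans ?_
  show one_add (u ≫ q) (u.appTop w) _ (sval (c.g i k)) = (u.appLE _ O _).hom (one_add q w _ (sval (c.g i k)))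
  simp only [one_add, map_add, map_one, map_mul]
  congr 2
  · rw [Ample.appLE_res, Scheme.Hom.appTop, Scheme.Hom.app_eq_appLE]
    exact Ample.res_appLE _ _ _ _
  · rw [← CommRingCat.comp_apply, Scheme.Hom.appLE_comp_appLE]

theorem twCls_of_eq_zero {w : Γ(Y, ⊤)} (hw : w * w = 0) (h0 : w = 0) (c : Coc (Osh X)) : twCls q hw c = 1 := by
  rw [twCls, Cube.cls_eq_one_iff]
  refine ⟨⟨fun i => 1, fun i k W hi hk => ?_⟩, (tw q hw c).locus_eq_top_of_isUnit _ fun i => isUnit_one⟩
  show res hi 1 = res _ _ ^ 1 * res hk 1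
  rw [map_one, map_one, mul_one, pow_one]
  erw [res_one_add]
  subst h0
  simp [one_add]

theorem twCls_congr {q' : Y ⟶ X} {w' : Γ(Y, ⊤)} (hw' : w' * w' = 0) (hq : q = q') (h : w = w') (c : Coc (Osh X)) :
    twCls q hw c = twCls q' hw' c := by
  subst hq h
  rfl

theorem sq_mul_zero (hw : w * w = 0) (r : Γ(Y, ⊤)) : (r * w) * (r * w) = 0 := by
  linear_combination r * r * hw

theorem twCls_smul (r : Coh.Γtop X) (c : Coc (Osh X)) :
    twCls q (sq_mul_zero hw (q.appTop (show Γ(X, ⊤) from r))) c =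
      twCls q hw (c.map (Coh.smulAb (Coh.structureModule X) r)) := by
  rw [twCls, twCls]
  refine Quotient.sound (Cube.eqv_of_map (c := tw q (sq_mul_zero hw (q.appTop (show Γ(X, ⊤) from r))) c)
    (c' := tw q hw (c.map (Coh.smulAb (Coh.structureModule X) r)))
    id (fun _ => le_rfl) (fun _ => 1) (fun _ => isUnit_one) fun i k O hi hk => ?_)
  rw [map_one, map_one, one_mul, mul_one, tw_G, tw_G]
  show one_add q w _ ((res le_top (show Γ(X, ⊤) from r) : Γ(X, c.D i ⊓ c.D k)) * sval (c.g i k)) = _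
  simp only [one_add, map_mul]
  rw [Scheme.Hom.appTop, Scheme.Hom.app_eq_appLE]
  erw [Ample.res_appLE, Ample.appLE_res]
  ring

/-- The twisting homomorphism on `H^1`. -/
def twHom : Multiplicative (Coh.HH X (Coh.structureModule X) 1) →* Cube.Pic Y :=
  MonoidHom.mk' (fun x => twCls q hw (exists_cl_eq x.toAdd).choose) fun x y => by
    show twCls q hw _ = twCls q hw _ * twCls q hw _
    rw [← twCls_add]
    refine twCls_eq_of_cl_eq q hw ?_
    rw [Coc.cl_add, (exists_cl_eq x.toAdd).choose_spec, (exists_cl_eq y.toAdd).choose_spec]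
    exact (exists_cl_eq (x * y).toAdd).choose_spec

theorem twHom_cl (c : Coc (Osh X)) : twHom q hw (Multiplicative.ofAdd c.cl) = twCls q hw c :=
  twCls_eq_of_cl_eq q hw (exists_cl_eq c.cl).choose_spec

theorem pull_twHom (u : Z ⟶ Y) (hw' : u.appTop w * u.appTop w = 0) (x : Multiplicative (Coh.HH X (Coh.structureModule X) 1)) :
    Cube.pull u (twHom q hw x) = twHom (u ≫ q) hw' x := by
  obtain ⟨c, hc⟩ := exists_cl_eq x.toAdd
  obtain rfl : x = Multiplicative.ofAdd c.cl := by rw [hc]; rfl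
  rw [twHom_cl, twHom_cl, tw_comap]

theorem twHom_smul (r : Coh.Γtop X) (x : Coh.HH X (Coh.structureModule X) 1) :
    twHom q (sq_mul_zero hw (q.appTop (show Γ(X, ⊤) from r))) (Multiplicative.ofAdd x) =
      twHom q hw (Multiplicative.ofAdd (r • x)) := by
  obtain ⟨c, rfl⟩ := exists_cl_eq x
  rw [twHom_cl, twCls_smul q hw]
  have h : r • c.cl = (c.map (Coh.smulAb (Coh.structureModule X) r)).cl := (Coc.cl_map _ c).symm
  rw [h, twHom_cl]

end GrothLib.PicTan26
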