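import Groth.Agent.Lib.PicTan26.Class

/-!
# The kernel of restriction along a split first order thickening
-/

universe u

set_option backward.isDefEq.respectTransparency false

open CategoryTheory CategoryTheory.Limits AlgebraicGeometry TopologicalSpace Opposite
open GrothLib.Ample GrothLib.PicH1

noncomputable section

namespace GrothLib.PicTan26

variable {X Y : Scheme.{u}} {j : X ⟶ Y} {q : Y ⟶ X}

/-- A split thickening of `X` by `w O`. -/
structure IsSplit (j : X ⟶ Y) (q : Y ⟶ X) (w : Γ(Y, ⊤)) : Prop where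
  comp : j ≫ q = 𝟙 X
  surj : Function.Surjective j
  sq : w * w = 0
  res_zero : j.appTop w = 0
  inj : ∀ V : X.Opens, IsAffineOpen V → ∀ b : Γ(X, V),
    res (le_top : q ⁻¹ᵁ V ≤ ⊤) w * q.appLE V (q ⁻¹ᵁ V) le_rfl b = 0 → b = 0
  ex : ∀ V : X.Opens, IsAffineOpen V → ∀ (a : Γ(Y, q ⁻¹ᵁ V)) (e : V ≤ j ⁻¹ᵁ (q ⁻¹ᵁ V)),
    j.appLE (q ⁻¹ᵁ V) V e a = 0 → ∃ b, a = res (le_top : q ⁻¹ᵁ V ≤ ⊤) w * q.appLE V (q ⁻¹ᵁ V) le_rfl b

variable {w : Γ(Y, ⊤)} (h : IsSplit j q w)

include h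

theorem IsSplit.le_pre (V : X.Opens) : V ≤ j ⁻¹ᵁ (q ⁻¹ᵁ V) := by
  intro x hx
  show q (j x) ∈ V
  rwa [show q (j x) = x from congrArg (fun f : X ⟶ X => f x) h.comp]

theorem IsSplit.pre_eq (W : Y.Opens) : q ⁻¹ᵁ (j ⁻¹ᵁ W) = W := by
  ext y
  obtain ⟨x, rfl⟩ := h.surj y
  show j (q (j x)) ∈ W ↔ j x ∈ W
  rw [show q (j x) = x from congrArg (fun f : X ⟶ X => f x) h.comp]

theorem IsSplit.j_q {U V : X.Opens} {W : Y.Opens} (e : W ≤ q ⁻¹ᵁ U) (e' : V ≤ j ⁻¹ᵁ W) (hVU : V ≤ U)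
    (a : Γ(X, U)) : j.appLE W V e' (q.appLE U W e a) = res hVU a := by
  rw [← CommRingCat.comp_apply, Scheme.Hom.appLE_comp_appLE]
  have key : ∀ (f : X ⟶ X) (_ : f = 𝟙 X) (e : V ≤ f ⁻¹ᵁ U), f.appLE U V e a = res hVU a := by
    rintro f rfl e
    simp [Scheme.Hom.appLE, Ample.res]
  exact key _ h.comp _

theorem IsSplit.j_one_add {U V : X.Opens} {W : Y.Opens} (e : W ≤ q ⁻¹ᵁ U) (e' : V ≤ j ⁻¹ᵁ W)
    (a : Γ(X, U)) : j.appLE W V e' (one_add q w e a) = 1 := by
  have h0 : j.appLE W V e' (res le_top w) = 0 := by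
    erw [Ample.appLE_res]
    have h1 : res (le_top : V ≤ ⊤) (j.appTop w) = 0 := by rw [h.res_zero, map_zero]
    rw [Scheme.Hom.appTop, Scheme.Hom.app_eq_appLE] at h1
    erw [Ample.res_appLE] at h1
    exact h1
  simp only [one_add, map_add, map_one, map_mul]
  rw [h0, zero_mul, add_zero]

theorem IsSplit.inj' {V : X.Opens} {b : Γ(X, V)}
    (hb : res (le_top : q ⁻¹ᵁ V ≤ ⊤) w * q.appLE V (q ⁻¹ᵁ V) le_rfl b = 0) : b = 0 := by
  refine TopCat.Presheaf.section_ext X.sheaf _ _ _ fun x hx => ?_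
  obtain ⟨A, hA, hxA, hAV⟩ := exists_isAffineOpen_mem_and_subset (x := x) (U := V) hx
  have hAV' : A ≤ V := hAV
  have h1 := congrArg (res (q.preimage_mono hAV' : q ⁻¹ᵁ A ≤ q ⁻¹ᵁ V)) hb
  rw [map_mul, map_zero, res_res, Ample.res_appLE, ← Ample.appLE_res q hAV' le_rfl] at h1
  have h2 := h.inj A hA _ h1
  erw [← X.presheaf.germ_res_apply (homOfLE hAV') x hxA, map_zero]
  exact (congrArg _ h2).trans (map_zero _)

theorem IsSplit.one_add_injective {V : X.Opens} {a b : Γ(X, V)}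
    (hab : one_add q w (le_rfl : q ⁻¹ᵁ V ≤ q ⁻¹ᵁ V) a = one_add q w le_rfl b) : a = b := by
  refine sub_eq_zero.1 (h.inj' ?_)
  simp only [one_add] at hab
  rw [map_sub, mul_sub, sub_eq_zero]
  exact add_left_cancel hab

theorem IsSplit.exists_one_add {V : X.Opens} {a : Γ(Y, q ⁻¹ᵁ V)} (ha : j.appLE (q ⁻¹ᵁ V) V (h.le_pre V) a = 1) :
    ∃ b, a = one_add q w le_rfl b := by
  let ι := {A : X.Opens // IsAffineOpen A ∧ A ≤ V}
  have hcov : V ≤ ⨆ A : ι, A.1 := fun x hx => by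
    obtain ⟨A, hA, hxA, hAV⟩ := exists_isAffineOpen_mem_and_subset (x := x) (U := V) hx
    exact Opens.mem_iSup.2 ⟨⟨A, hA, hAV⟩, hxA⟩
  have hloc : ∀ A : ι, ∃ b, res (q.preimage_mono A.2.2) a = one_add q w (le_rfl : q ⁻¹ᵁ A.1 ≤ q ⁻¹ᵁ A.1) b := by
    intro A
    obtain ⟨b, hb⟩ := h.ex A.1 A.2.1 (res (q.preimage_mono A.2.2) a - 1) (h.le_pre _) (by
      rw [map_sub, map_one, sub_eq_zero]
      erw [Ample.appLE_res]
      have := congrArg (res A.2.2) ha
      rw [map_one] at this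
      erw [Ample.res_appLE] at this
      exact this)
    exact ⟨b, by rw [one_add]; linear_combination hb⟩
  choose b hb using hloc
  obtain ⟨t, ht⟩ := PicH1.exists_glue (Osh X) (fun A : ι => A.1) (fun A => A.2.2) hcov b fun A B => by
    refine h.one_add_injective (V := A.1 ⊓ B.1) ?_
    show one_add q w le_rfl (res inf_le_left (b A)) = one_add q w le_rfl (res inf_le_right (b B))
    rw [one_add_res, one_add_res, ← res_one_add q (le_rfl : q ⁻¹ᵁ A.1 ≤ _) (q.preimage_mono inf_le_left),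
      ← res_one_add q (le_rfl : q ⁻¹ᵁ B.1 ≤ _) (q.preimage_mono inf_le_right), ← hb, ← hb, res_res, res_res]
  refine ⟨t, TopCat.Sheaf.eq_of_locally_eq' (Y.sheaf) (fun A : ι => q ⁻¹ᵁ A.1) (q ⁻¹ᵁ V)
    (fun A => homOfLE (q.preimage_mono A.2.2)) (fun y hy => ?_) a (one_add q w le_rfl t) fun A => ?_⟩
  · obtain ⟨A, hA⟩ := Opens.mem_iSup.1 (hcov hy)
    exact Opens.mem_iSup.2 ⟨A, hA⟩
  · refine (hb A).trans ?_
    refine Eq.trans ?_ (res_one_add q (le_rfl : q ⁻¹ᵁ V ≤ _) (q.preimage_mono A.2.2) t).symm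
    rw [← one_add_res q (A.2.2) (le_rfl : q ⁻¹ᵁ A.1 ≤ _) t]
    exact congrArg (one_add q w le_rfl) (show b A = res A.2.2 t from (ht A).symm)

theorem isUnit_of_locus {c : Cocycle Y} (a : c.sect 1 ⊤) (ha : c.locus a = ⊤) (i : c.ι) : IsUnit (a.1 i) := by
  have hb : Y.basicOpen (a.1 i) = ⊤ ⊓ c.D i := by
    have e := c.locus_inf_D a i
    rw [ha] at e
    exact e.symm
  refine Y.toRingedSpace.isUnit_of_isUnit_germ _ (a.1 i) fun x hx => ?_
  refine (Y.toRingedSpace.mem_basicOpen (a.1 i) x hx).1 ?_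
  show x ∈ Y.basicOpen (a.1 i)
  rw [hb]
  exact hx

theorem IsSplit.twCls_eq_one_iff (c : Coc (Osh X)) : twCls q h.sq c = 1 ↔ c.IsTrivial := by
  refine ⟨fun hc => ?_, twCls_eq_one q h.sq c⟩
  rw [twCls, Cube.cls_eq_one_iff] at hc
  obtain ⟨a, ha⟩ := hc
  have hl : ∀ i, ∃ l : Γ(Y, q ⁻¹ᵁ c.D i), IsUnit l ∧
      l = res (le_inf le_top le_rfl : q ⁻¹ᵁ c.D i ≤ ⊤ ⊓ q ⁻¹ᵁ c.D i) (a.1 i) :=
    fun i => ⟨_, (isUnit_of_locus h a ha i).map _, rfl⟩
  choose l hlu hl using hl
  have key : ∀ (i k : c.ι) (W : X.Opens) (hi : W ≤ c.D i) (hk : W ≤ c.D k),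
      res (q.preimage_mono hi) (l i) = one_add q w le_rfl (res (le_inf hi hk) (sval (c.g i k))) *
        res (q.preimage_mono hk) (l k) := by
    intro i k W hi hk
    have e := (tw q h.sq c).sect_spec a i k (W := q ⁻¹ᵁ W) (le_inf le_top (q.preimage_mono hi))
      (le_inf le_top (q.preimage_mono hk))
    rw [pow_one] at e
    rw [hl, hl, res_res, res_res, one_add_res]
    refine e.trans ?_
    congr 1
    exact tw_G q h.sq c i k _ _
  choose v hv using fun i => ((hlu i).map (j.appLE (q ⁻¹ᵁ c.D i) (c.D i) (h.le_pre _)).hom).exists_left_inv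
  choose b hb using fun i => h.exists_one_add (V := c.D i) (a := l i * q.appLE (c.D i) (q ⁻¹ᵁ c.D i) le_rfl (v i)) (by
    rw [map_mul, h.j_q _ _ le_rfl]
    erw [mul_comm]
    simpa [Ample.res] using hv i)
  refine ⟨fun i => b i, fun i k W hi hk => ?_⟩
  refine h.one_add_injective (V := W) ?_
  show one_add q w le_rfl (res (le_inf hi hk) (sval (c.g i k))) =
    one_add q w le_rfl (res hi (b i) - res hk (b k))
  have ei := congrArg (res (q.preimage_mono hi)) (hb i)
  have ek := congrArg (res (q.preimage_mono hk)) (hb k)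
  rw [map_mul, res_one_add, ← one_add_res q hi le_rfl, Ample.res_appLE, ← Ample.appLE_res q hi le_rfl] at ei
  rw [map_mul, res_one_add, ← one_add_res q hk le_rfl, Ample.res_appLE, ← Ample.appLE_res q hk le_rfl] at ek
  have hvv : res hi (v i) = res hk (v k) := by
    have e := congrArg (j.appLE (q ⁻¹ᵁ W) W (h.le_pre W)) (key i k W hi hk)
    rw [map_mul, h.j_one_add, one_mul] at e
    have e1 : ∀ (m : c.ι) (hm : W ≤ c.D m), res hm (v m) *
        j.appLE (q ⁻¹ᵁ W) W (h.le_pre W) (res (q.preimage_mono hm) (l m)) = 1 := fun m hm => by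
      have := congrArg (res hm) (hv m)
      rw [map_mul, map_one] at this
      erw [Ample.res_appLE] at this
      rw [show j.appLE (q ⁻¹ᵁ W) W (h.le_pre W) (res (q.preimage_mono hm) (l m)) =
        j.appLE (q ⁻¹ᵁ c.D m) W ((h.le_pre W).trans (j.preimage_mono (q.preimage_mono hm))) (l m) from
        Ample.appLE_res _ _ _ _]
      exact this
    have e2 := e1 i hi
    rw [e] at e2
    linear_combination (res hk (v k)) * e2 - (res hi (v i)) * (e1 k hk)
  rw [key i k W hi hk, hvv] at ei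
  have hz : one_add q w (le_rfl : q ⁻¹ᵁ W ≤ _) (res hk (b k)) * one_add q w le_rfl (-res hk (b k)) = 1 := by
    rw [one_add_mul q h.sq, add_neg_cancel, one_add_zero]
  rw [sub_eq_add_neg, ← one_add_mul q h.sq, ← ei]
  linear_combination -(one_add q w (le_rfl : q ⁻¹ᵁ W ≤ _) (res (le_inf hi hk) (sval (c.g i k)))) * hz -
    (one_add q w (le_rfl : q ⁻¹ᵁ W ≤ _) (res (le_inf hi hk) (sval (c.g i k))) * one_add q w le_rfl (-res hk (b k))) * ek

theorem IsSplit.exists_twCls_eq (p : Cube.Pic Y) (hp : Cube.pull j p = 1) : ∃ c, twCls q h.sq c = p := by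
  induction p using Quotient.inductionOn with
  | h d =>
    change Cube.pull j (Cube.cls d) = 1 at hp
    rw [Cube.pull_cls, Cube.cls_eq_one_iff] at hp
    obtain ⟨a, ha⟩ := hp
    have hu : ∀ i, ∃ l : Γ(X, j ⁻¹ᵁ d.D i), IsUnit l ∧
        l = res (le_inf le_top le_rfl : j ⁻¹ᵁ d.D i ≤ ⊤ ⊓ j ⁻¹ᵁ d.D i) (a.1 i) := fun i => by
      refine ⟨_, IsUnit.map _ ?_, rfl⟩
      have hb : X.basicOpen (a.1 i) = ⊤ ⊓ j ⁻¹ᵁ d.D i := by
        have e := (d.comap j).locus_inf_D a i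
        rw [ha] at e
        exact e.symm
      refine X.toRingedSpace.isUnit_of_isUnit_germ _ (a.1 i) fun x hx => ?_
      refine (X.toRingedSpace.mem_basicOpen (a.1 i) x hx).1 ?_
      show x ∈ X.basicOpen (a.1 i)
      rw [hb]
      exact hx
    choose l hlu hl using hu
    choose v hv using fun i => (hlu i).exists_left_inv
    let V : d.ι → X.Opens := fun i => j ⁻¹ᵁ d.D i
    have hV : ∀ {i} {W : X.Opens}, W ≤ V i → q ⁻¹ᵁ W ≤ d.D i := fun {i} {W} hW =>
      (q.preimage_mono hW).trans (h.pre_eq _).le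
    have hspec : ∀ (i k : d.ι) (W : X.Opens) (hi : W ≤ V i) (hk : W ≤ V k),
        res hi (l i) = j.appLE (q ⁻¹ᵁ W) W (h.le_pre W) (d.G i k (hV hi) (hV hk)) * res hk (l k) := by
      intro i k W hi hk
      have e := (d.comap j).sect_spec a i k (W := W) (le_inf le_top hi) (le_inf le_top hk)
      rw [pow_one, Cocycle.comap_G] at e
      rw [hl, hl, res_res, res_res]
      refine e.trans ?_
      congr 1
      exact (Ample.appLE_res j _ _ _).symm
    have hex : ∀ (i k : d.ι), ∃ b : Γ(X, V i ⊓ V k), d.G i k (hV inf_le_left) (hV inf_le_right) *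
        q.appLE (V k) (q ⁻¹ᵁ (V i ⊓ V k)) (q.preimage_mono inf_le_right) (l k) *
        q.appLE (V i) (q ⁻¹ᵁ (V i ⊓ V k)) (q.preimage_mono inf_le_left) (v i) = one_add q w le_rfl b := by
      intro i k
      refine h.exists_one_add ?_
      rw [map_mul, map_mul, h.j_q _ _ inf_le_right, h.j_q _ _ inf_le_left, ← hspec i k _ inf_le_left inf_le_right,
        ← map_mul, mul_comm, hv, map_one]
    choose g hg using hex
    have hg' : ∀ (i k : d.ι) (W : X.Opens) (hi : W ≤ V i) (hk : W ≤ V k),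
        one_add q w le_rfl (res (le_inf hi hk) (g i k)) = d.G i k (hV hi) (hV hk) *
          q.appLE (V k) (q ⁻¹ᵁ W) (q.preimage_mono hk) (l k) *
          q.appLE (V i) (q ⁻¹ᵁ W) (q.preimage_mono hi) (v i) := by
      intro i k W hi hk
      rw [one_add_res, ← res_one_add q le_rfl (q.preimage_mono (le_inf hi hk)), ← hg, map_mul, map_mul, d.res_G,
        Ample.res_appLE, Ample.res_appLE]
    have hlv : ∀ (i : d.ι) (W : X.Opens) (hi : W ≤ V i),
        q.appLE (V i) (q ⁻¹ᵁ W) (q.preimage_mono hi) (v i) *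
          q.appLE (V i) (q ⁻¹ᵁ W) (q.preimage_mono hi) (l i) = 1 := fun i W hi => by
      rw [← map_mul, hv, map_one]
    let c : Coc (Osh X) :=
      { ι := d.ι, D := V, g := g
        cover := by rw [← Scheme.Hom.preimage_iSup, d.cover, Scheme.Hom.preimage_top]
        cocycle := fun i m k W hi hm hk => by
          refine h.one_add_injective (V := W) ?_
          show one_add q w le_rfl (res (le_inf hi hk) (g i k)) =
            one_add q w le_rfl (res (le_inf hi hm) (g i m) + res (le_inf hm hk) (g m k))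
          rw [← one_add_mul q h.sq, hg' i k W hi hk, hg' i m W hi hm, hg' m k W hm hk,
            d.G_trans i m k (hV hi) (hV hm) (hV hk)]
          linear_combination (-(d.G i m (hV hi) (hV hm) * d.G m k (hV hm) (hV hk) *
            q.appLE (V k) (q ⁻¹ᵁ W) (q.preimage_mono hk) (l k) *
            q.appLE (V i) (q ⁻¹ᵁ W) (q.preimage_mono hi) (v i))) * hlv m W hm }
    refine ⟨c, Quotient.sound (Cube.eqv_of_map (c := tw q h.sq c) (c' := d) id
      (fun i => (h.pre_eq _).le) (fun i => q.appLE (V i) (q ⁻¹ᵁ V i) le_rfl (l i))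
      (fun i => (hlu i).map _) fun i k O hi hk => ?_)⟩
    have hik : O ≤ q ⁻¹ᵁ (V i ⊓ V k) := le_inf hi hk
    have e := congrArg (res hik) (hg i k)
    rw [map_mul, map_mul, d.res_G, Ample.res_appLE, Ample.res_appLE, res_one_add] at e
    rw [tw_G]
    show res hk (q.appLE (V k) (q ⁻¹ᵁ V k) le_rfl (l k)) * _ =
      one_add q w _ (g i k) * res hi (q.appLE (V i) (q ⁻¹ᵁ V i) le_rfl (l i))
    erw [Ample.res_appLE, Ample.res_appLE, ← e]
    have hu : q.appLE (V i) O (hik.trans (q.preimage_mono inf_le_left)) (v i) *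
        q.appLE (V i) O (hik.trans (q.preimage_mono inf_le_left)) (l i) = 1 := by rw [← map_mul, hv, map_one]
    simp only [id_eq]
    linear_combination (-(d.G i k (hik.trans (hV inf_le_left)) (hik.trans (hV inf_le_right)) *
      q.appLE (V k) O (hik.trans (q.preimage_mono inf_le_right)) (l k))) * hu

theorem IsSplit.twHom_injective : Function.Injective (twHom q h.sq) := by
  refine (injective_iff_map_eq_one _).2 fun x hx => ?_
  obtain ⟨c, hc⟩ := exists_cl_eq x.toAdd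
  obtain rfl : x = Multiplicative.ofAdd c.cl := by rw [hc]; rfl
  rw [twHom_cl, h.twCls_eq_one_iff, ← Coc.cl_eq_zero_iff] at hx
  exact congrArg Multiplicative.ofAdd hx

theorem IsSplit.exists_twHom_eq (p : Cube.Pic Y) (hp : Cube.pull j p = 1) : ∃ x, twHom q h.sq x = p := by
  obtain ⟨c, rfl⟩ := h.exists_twCls_eq p hp
  exact ⟨_, twHom_cl q h.sq c⟩

theorem IsSplit.pull_twHom_eq_one (x : Multiplicative (Coh.HH X (Coh.structureModule X) 1)) :
    Cube.pull j (twHom q h.sq x) = 1 := by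
  have hw' : j.appTop w * j.appTop w = 0 := by rw [← map_mul, h.sq, map_zero]
  rw [pull_twHom q h.sq j hw']
  obtain ⟨c, hc⟩ := exists_cl_eq x.toAdd
  obtain rfl : x = Multiplicative.ofAdd c.cl := by rw [hc]; rfl
  rw [twHom_cl, twCls_of_eq_zero _ hw' h.res_zero]

end GrothLib.PicTan26
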